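import Groth.Agent.PushDepth.Local
import Groth.Agent.Alg6.AssDepth
import Groth.Agent.VarGeom.Normal
import Mathlib.RingTheory.Regular.RegularSequence
import Mathlib.RingTheory.Flat.Localization

/-!
# Depth of stalks of direct images
-/

set_option autoImplicit false
set_option backward.isDefEq.respectTransparency false
set_option backward.isDefEq.respectTransparency.types false
set_option linter.style.haveILetI false

universe u

open CategoryTheory AlgebraicGeometry TopologicalSpace Opposite IsLocalRing RingTheory.Sequence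

noncomputable section

namespace Groth.Agent.PushDepth

variable {X S : Scheme.{u}} {f : X ⟶ S} [QuasiCompact f] [QuasiSeparated f] {F : X.Modules} {s : S}

omit [QuasiCompact f] [QuasiSeparated f] in
theorem germ_app_res {U V : S.Opens} (h : V ≤ U) (r : Γ(S, U)) {x : X} (hx : x ∈ f ⁻¹ᵁ V) :
    X.presheaf.germ (f ⁻¹ᵁ V) x hx (f.app V (S.presheaf.map (homOfLE h).op r)) =
      X.presheaf.germ (f ⁻¹ᵁ U) x (f.preimage_mono h hx) (f.app U r) := by
  refine (congrArg (X.presheaf.germ _ x hx) (congr(($(f.naturality (homOfLE h).op)) r))).trans ?_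
  exact X.presheaf.germ_res_apply _ _ _ _

/-- A point not specialised to by `s` has an element of the maximal ideal at `s` which is a unit near it. -/
theorem exists_mem_maximal_basicOpen {t : S} (ht : t ⤳ s) (hne : t ≠ s) {U : S.Opens} (hU : IsAffineOpen U)
    (hs : s ∈ U) : ∃ g : Γ(S, U), t ∈ S.basicOpen g ∧ S.presheaf.germ U s hs g ∈ maximalIdeal (S.presheaf.stalk s) := by
  have htU : t ∈ U := ht.mem_open U.2 hs
  have hn : ¬ s ⤳ t := fun h => hne (ht.antisymm h).eq
  obtain ⟨O, hO, htO, hsO⟩ := not_specializes_iff_exists_open.1 hn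
  obtain ⟨g, hg, htg⟩ := hU.exists_basicOpen_le (V := ⟨O, hO⟩) ⟨t, htO⟩ htU
  refine ⟨g, htg, fun hu => hsO (hg ((S.mem_basicOpen g s hs).2 hu))⟩

omit [QuasiSeparated f] in
theorem eq_zero_of_maximal_smul (hs' : s ∉ Set.range fun x => f x)
    (z : ((Scheme.Modules.pushforward f).obj F).presheaf.stalk s)
    (hz : ∀ a ∈ maximalIdeal (S.presheaf.stalk s), a • z = 0) : z = 0 := by
  obtain ⟨U, -, hU, hsU, y, rfl⟩ := exists_pGerm_eq (f := f) F z (O := ⊤) trivial
  obtain ⟨U', hle, -, hsU', he⟩ := exists_eq_near (f := f) hU hsU (f ⁻¹ᵁ U)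
    (f.isCompact_preimage hU.isCompact) le_rfl y 0 fun x hx hxs => by
      obtain ⟨g, hxg, hgm⟩ := exists_mem_maximal_basicOpen hxs (fun h => hs' ⟨x, h⟩) hU hsU
      have h0 : pGerm F hsU (f.app U g • y) = pGerm F hsU 0 := by
        rw [pGerm_smul, hz _ hgm]
        exact (map_zero _).symm
      obtain ⟨U', hle, -, hsU', he⟩ := exists_res_eq_of_pGerm_eq F hsU _ _ h0
      have hx' : x ∈ f ⁻¹ᵁ U' := hxs.mem_open U'.2 hsU'
      have := congrArg (F.presheaf.germ _ x hx') he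
      rw [F.presheaf.germ_res_apply, F.presheaf.germ_res_apply, QCoh.germ_smul', map_zero] at this
      have hu : IsUnit (X.presheaf.germ _ x hx (f.app U g)) := by
        rw [← X.mem_basicOpen _ x hx, ← Scheme.preimage_basicOpen]
        exact hxg
      rw [map_zero]
      exact hu.smul_eq_zero.1 this
  rw [← pGerm_res F hle hsU' y]
  have : F.presheaf.map (homOfLE (f.preimage_mono hle)).op y = 0 := by
    have h := congrArg (F.presheaf.map (homOfLE (le_inf (f.preimage_mono hle) le_rfl :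
      f ⁻¹ᵁ U' ≤ f ⁻¹ᵁ U ⊓ f ⁻¹ᵁ U')).op) he
    rwa [map_map', map_map', map_zero] at h
  rw [this]
  exact map_zero _

omit [QuasiSeparated f] in
theorem mem_smul_of_maximal_smul (hs' : s ∉ Set.range fun x => f x) [IsNoetherianRing (S.presheaf.stalk s)]
    {a : S.presheaf.stalk s} (ha : IsSMulRegular (((Scheme.Modules.pushforward f).obj F).presheaf.stalk s) a)
    (y : ((Scheme.Modules.pushforward f).obj F).presheaf.stalk s)
    (hy : ∀ b ∈ maximalIdeal (S.presheaf.stalk s), ∃ w, a • w = b • y) : ∃ w, a • w = y := by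
  classical
  obtain ⟨U, hsU, a₀, rfl⟩ := TopCat.Presheaf.exists_germ_eq S.presheaf a
  obtain ⟨G, hG⟩ := IsNoetherian.noetherian (maximalIdeal (S.presheaf.stalk s))
  choose z hz using fun b : G => hy b.1 (hG ▸ Submodule.subset_span b.2)
  choose O hsO b₀ hb₀ using fun b : G => TopCat.Presheaf.exists_germ_eq S.presheaf b.1
  obtain ⟨Uy, -, hUy, hsUy, y₀, rfl⟩ := exists_pGerm_eq (f := f) F y (O := U) hsU
  choose Uz hUz hUza hsUz z₀ hz₀ using fun b : G => exists_pGerm_eq (f := f) F (z b) (O := O b) (hsO b)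
  have hsI : s ∈ Uy ⊓ U ⊓ (Finset.univ : Finset G).inf Uz := by
    refine ⟨⟨hsUy, hsU⟩, ?_⟩
    suffices ∀ t : Finset G, s ∈ t.inf Uz from this _
    intro t
    induction t using Finset.induction_on with
    | empty => exact trivial
    | insert p t _ ih =>
      rw [Finset.inf_insert]
      exact ⟨hsUz p, ih⟩
  obtain ⟨U₁, hU₁, hU₁a, hsU₁⟩ := exists_affine_nhd hsI
  have h1 : U₁ ≤ U := hU₁.trans (inf_le_left.trans inf_le_right)
  have h2 : U₁ ≤ Uy := hU₁.trans (inf_le_left.trans inf_le_left)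
  have h3 : ∀ b, U₁ ≤ Uz b := fun b => hU₁.trans (inf_le_right.trans (Finset.inf_le (Finset.mem_univ b)))
  let A := f.app U₁ (S.presheaf.map (homOfLE h1).op a₀)
  let B : G → Γ(X, f ⁻¹ᵁ U₁) := fun b => f.app U₁ (S.presheaf.map (homOfLE ((h3 b).trans (hUz b))).op (b₀ b))
  let Y : Γ(F, f ⁻¹ᵁ U₁) := F.presheaf.map (homOfLE (f.preimage_mono h2)).op y₀
  let Z : G → Γ(F, f ⁻¹ᵁ U₁) := fun b => F.presheaf.map (homOfLE (f.preimage_mono (h3 b))).op (z₀ b)
  have hY : pGerm F hsU₁ Y = pGerm F hsUy y₀ := pGerm_res F h2 hsU₁ y₀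
  have hZ : ∀ b, pGerm F hsU₁ (Z b) = z b := fun b => (pGerm_res F (h3 b) hsU₁ _).trans (hz₀ b)
  have hA : ∀ t, pGerm F hsU₁ (A • t) = S.presheaf.germ U s hsU a₀ • pGerm F hsU₁ t := fun t => by
    rw [pGerm_smul, S.presheaf.germ_res_apply]
  have hB : ∀ b t, pGerm F hsU₁ (B b • t) = b.1 • pGerm F hsU₁ t := fun b t => by
    rw [pGerm_smul, S.presheaf.germ_res_apply, hb₀]
  have e1 : ∀ b, ∃ U' ≤ U₁, IsAffineOpen U' ∧ s ∈ U' ∧ ∀ (V : X.Opens) (hV : V ≤ f ⁻¹ᵁ U₁), V ≤ f ⁻¹ᵁ U' →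
      F.presheaf.map (homOfLE hV).op (A • Z b) = F.presheaf.map (homOfLE hV).op (B b • Y) := fun b => by
    obtain ⟨U', hle, hU', hsU', he⟩ := exists_res_eq_of_pGerm_eq F hsU₁ (A • Z b) (B b • Y)
      (by rw [hA, hB, hY, hZ, hz])
    refine ⟨U', hle, hU', hsU', fun V hV hV' => ?_⟩
    have := congrArg (F.presheaf.map (homOfLE hV').op) he
    rwa [map_map', map_map'] at this
  have e2 : ∀ b c, ∃ U' ≤ U₁, IsAffineOpen U' ∧ s ∈ U' ∧ ∀ (V : X.Opens) (hV : V ≤ f ⁻¹ᵁ U₁), V ≤ f ⁻¹ᵁ U' →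
      F.presheaf.map (homOfLE hV).op (B c • Z b) = F.presheaf.map (homOfLE hV).op (B b • Z c) := fun b c => by
    obtain ⟨U', hle, hU', hsU', he⟩ := exists_res_eq_of_pGerm_eq F hsU₁ (B c • Z b) (B b • Z c)
      (ha (by
        show S.presheaf.germ U s hsU a₀ • pGerm F hsU₁ (B c • Z b) = S.presheaf.germ U s hsU a₀ • pGerm F hsU₁ (B b • Z c)
        rw [hB, hB, smul_comm, hZ, hz, smul_comm, hZ, smul_comm (S.presheaf.germ U s hsU a₀), hz, smul_comm]))
    refine ⟨U', hle, hU', hsU', fun V hV hV' => ?_⟩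
    have := congrArg (F.presheaf.map (homOfLE hV').op) he
    rwa [map_map', map_map'] at this
  choose U' hle' _ hsU' he' using e1
  choose V' hleV' _ hsV' heV' using e2
  have hsI' : s ∈ U₁ ⊓ (Finset.univ : Finset G).inf fun b => U' b := by
    refine ⟨hsU₁, ?_⟩
    suffices ∀ t : Finset G, s ∈ t.inf fun b => U' b from this _
    intro t
    induction t using Finset.induction_on with
    | empty => exact trivial
    | insert p t _ ih =>
      rw [Finset.inf_insert]
      exact ⟨hsU' p, ih⟩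
  obtain ⟨U₂, hU₂, hU₂a, hsU₂⟩ := exists_affine_nhd hsI'
  have h21 : U₂ ≤ U₁ := hU₂.trans inf_le_left
  let W : G → X.Opens := fun b => X.basicOpen (B b) ⊓ f ⁻¹ᵁ U₂
  have hW : ∀ b, W b ≤ f ⁻¹ᵁ U₁ := fun b => inf_le_right.trans (f.preimage_mono h21)
  have hu : ∀ b, IsUnit (X.presheaf.map (homOfLE (hW b)).op (B b)) := fun b => by
    have h := isUnit_ringMap (inf_le_left : W b ≤ X.basicOpen (B b)) (RingedSpace.isUnit_res_basicOpen _ (B b))
    exact (congrArg IsUnit (ringMap_map' inf_le_left (X.basicOpen_le (B b)) (B b))).mp h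
  let w : ∀ b, Γ(F, W b) := fun b => ((hu b).unit⁻¹).val • F.presheaf.map (homOfLE (hW b)).op (Z b)
  have hwB : ∀ b, X.presheaf.map (homOfLE (hW b)).op (B b) • w b = F.presheaf.map (homOfLE (hW b)).op (Z b) :=
    fun b => by rw [← mul_smul, IsUnit.mul_val_inv, one_smul]
  rw [← hY]
  have hsurj : ∀ x : X, f x ⤳ s → ∃ b, x ∈ W b := fun x hxs => by
    obtain ⟨g, hxg, hgm⟩ := exists_mem_maximal_basicOpen hxs (fun h => hs' ⟨x, h⟩) hU₁a hsU₁
    have hxU₂ : x ∈ f ⁻¹ᵁ U₂ := hxs.mem_open U₂.2 hsU₂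
    have hxU₁ : x ∈ f ⁻¹ᵁ U₁ := f.preimage_mono h21 hxU₂
    by_contra hc
    push Not at hc
    have hle : maximalIdeal (S.presheaf.stalk s) ≤
        (maximalIdeal (X.presheaf.stalk x)).comap (S.presheaf.stalkSpecializes hxs ≫ f.stalkMap x).hom := by
      rw [← hG, Submodule.span_le]
      intro b hb
      show _ ∈ maximalIdeal _
      rw [show b = S.presheaf.germ U₁ s hsU₁ (S.presheaf.map (homOfLE ((h3 ⟨b, hb⟩).trans (hUz ⟨b, hb⟩))).op (b₀ ⟨b, hb⟩))
        by rw [S.presheaf.germ_res_apply, hb₀]]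
      show f.stalkMap x (S.presheaf.stalkSpecializes hxs _) ∈ _
      rw [← ConcreteCategory.comp_apply (S.presheaf.germ U₁ s hsU₁), TopCat.Presheaf.germ_stalkSpecializes,
        Scheme.Hom.germ_stalkMap_apply]
      exact fun hu => hc ⟨b, hb⟩ ⟨(X.mem_basicOpen _ x hxU₁).2 hu, hxU₂⟩
    have := hle hgm
    rw [Ideal.mem_comap] at this
    change f.stalkMap x (S.presheaf.stalkSpecializes hxs _) ∈ _ at this
    rw [← ConcreteCategory.comp_apply (S.presheaf.germ U₁ s hsU₁), TopCat.Presheaf.germ_stalkSpecializes,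
      Scheme.Hom.germ_stalkMap_apply] at this
    refine this ((X.mem_basicOpen _ x hxU₁).1 ?_)
    rw [← Scheme.preimage_basicOpen]
    exact hxg
  obtain ⟨r, hr⟩ := mem_smul_of_cover (f := f) (F := F) hsU₁ (S.presheaf.map (homOfLE h1).op a₀) Y W hW w
    (fun b => by
      apply (hu b).smul_left_cancel.1
      rw [smul_comm, hwB, ← map_smul', ← map_smul']
      exact he' b (W b) (hW b) (inf_le_right.trans (f.preimage_mono (hU₂.trans (inf_le_right.trans
        (Finset.inf_le (f := fun b => U' b) (Finset.mem_univ b)))))))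
    hsurj (fun i j => ⟨V' i j, hleV' i j, hsV' i j, by
      let T := W i ⊓ W j ⊓ f ⁻¹ᵁ V' i j
      have hTi : T ≤ W i := inf_le_left.trans inf_le_left
      have hTj : T ≤ W j := inf_le_left.trans inf_le_right
      have hT : T ≤ f ⁻¹ᵁ U₁ := inf_le_right.trans (f.preimage_mono (hleV' i j))
      have h := heV' i j T hT inf_le_right
      rw [map_smul', map_smul'] at h
      have hi := congrArg (F.presheaf.map (homOfLE hTi).op) (hwB i)
      have hj := congrArg (F.presheaf.map (homOfLE hTj).op) (hwB j)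
      rw [map_smul', map_map', ringMap_map'] at hi hj
      rw [← hi, ← hj, smul_comm] at h
      have hui : IsUnit (X.presheaf.map (homOfLE hT).op (B i)) := by
        have h := isUnit_ringMap hTi (hu i)
        rwa [ringMap_map'] at h
      have huj : IsUnit (X.presheaf.map (homOfLE hT).op (B j)) := by
        have h := isUnit_ringMap hTj (hu j)
        rwa [ringMap_map'] at h
      exact huj.smul_left_cancel.1 (hui.smul_left_cancel.1 h)⟩)
  exact ⟨r, (by rw [← hr, S.presheaf.germ_res_apply])⟩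

omit [QuasiSeparated f] in
/-- Depth at least two away from the image. -/
theorem two_le_depth (hs' : s ∉ Set.range fun x => f x) [IsNoetherianRing (S.presheaf.stalk s)]
    [Module.Finite (S.presheaf.stalk s) (((Scheme.Modules.pushforward f).obj F).presheaf.stalk s)] :
    (2 : ℕ∞) ≤ LocCoh.depth (S.presheaf.stalk s) (((Scheme.Modules.pushforward f).obj F).presheaf.stalk s) := by
  refine Alg6.two_le_depth_iff'.2 ⟨fun h => ?_, fun a _ hreg h => ?_⟩
  · obtain ⟨hp, z, hz⟩ := Alg6.mem_ass_iff.1 h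
    have h0 : z = 0 := eq_zero_of_maximal_smul hs' z fun b hb => (hz b).1 hb
    exact hp.ne_top (Ideal.eq_top_of_isUnit_mem _ ((hz 1).2 (by simp [h0])) isUnit_one)
  · obtain ⟨hp, zb, hz⟩ := Alg6.mem_ass_iff.1 h
    obtain ⟨z, rfl⟩ := Submodule.Quotient.mk_surjective _ zb
    have h0 := mem_smul_of_maximal_smul hs' hreg z fun b hb => Alg6.mem_pointwise_smul_top_iff.1 (by
      rw [Submodule.Quotient.mk_smul]
      exact (hz b).1 hb)
    exact hp.ne_top (Ideal.eq_top_of_isUnit_mem _ ((hz 1).2 (by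
      rw [one_smul]
      exact Alg6.mem_pointwise_smul_top_iff.2 h0)) isUnit_one)

omit [QuasiCompact f] [QuasiSeparated f] in
/-- Weakly regular sequences at `s` stay so on the stalks of a flat module over generalizations. -/
theorem isWeaklyRegular_of_flat (hflat : FlatMod.IsFlatOver f F) {x : X} (hx : f x ⤳ s)
    {rs : List (S.presheaf.stalk s)} (hrs : IsWeaklyRegular (S.presheaf.stalk s) rs) :
    IsWeaklyRegular (F.presheaf.stalk x)
      (rs.map (S.presheaf.stalkSpecializes hx ≫ f.stalkMap x).hom) := by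
  obtain ⟨M, hM⟩ := VarGeom.exists_isLocalization_stalkSpecializes hx
  letI := (S.presheaf.stalkSpecializes hx).hom.toAlgebra
  haveI : Module.Flat (S.presheaf.stalk s) (S.presheaf.stalk (f x)) := IsLocalization.flat _ M
  letI := FlatMod.moduleStalkOver f F x
  haveI : Module.Flat (S.presheaf.stalk (f x)) (F.presheaf.stalk x) := hflat x
  letI : Module (S.presheaf.stalk s) (F.presheaf.stalk x) :=
    Module.compHom _ (S.presheaf.stalkSpecializes hx ≫ f.stalkMap x).hom
  haveI : IsScalarTower (S.presheaf.stalk s) (S.presheaf.stalk (f x)) (F.presheaf.stalk x) :=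
    IsScalarTower.of_algebraMap_smul fun _ _ => rfl
  haveI : Module.Flat (S.presheaf.stalk s) (F.presheaf.stalk x) :=
    Module.Flat.trans (S.presheaf.stalk s) (S.presheaf.stalk (f x)) (F.presheaf.stalk x)
  have h : IsWeaklyRegular (F.presheaf.stalk x) rs :=
    ((TensorProduct.lid (S.presheaf.stalk s) (F.presheaf.stalk x)).isWeaklyRegular_congr rs).1
      hrs.isWeaklyRegular_rTensor
  exact ((AddEquiv.refl (F.presheaf.stalk x)).isWeaklyRegular_congr
    (bs := rs.map (S.presheaf.stalkSpecializes hx ≫ f.stalkMap x).hom)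
    (List.forall₂_map_right_iff.2 (List.forall₂_same.2 fun _ _ _ => rfl))).1 h

omit [QuasiSeparated f] in
theorem isSMulRegular_pushforward (hflat : FlatMod.IsFlatOver f F) {a : S.presheaf.stalk s}
    (ha : IsSMulRegular (S.presheaf.stalk s) a) :
    IsSMulRegular (((Scheme.Modules.pushforward f).obj F).presheaf.stalk s) a := by
  rw [isSMulRegular_iff_right_eq_zero_of_smul]
  intro z hz
  obtain ⟨U, hsU, a₀, rfl⟩ := TopCat.Presheaf.exists_germ_eq S.presheaf a
  obtain ⟨U₁, hle, hU₁, hsU₁, y, rfl⟩ := exists_pGerm_eq (f := f) F z (O := U) hsU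
  obtain ⟨U₂, hle₂, -, hsU₂, he⟩ := exists_eq_near (f := f) hU₁ hsU₁ (f ⁻¹ᵁ U₁)
    (f.isCompact_preimage hU₁.isCompact) le_rfl y 0 fun x hx hxs => by
      have h0 : pGerm F hsU₁ (f.app U₁ (S.presheaf.map (homOfLE hle).op a₀) • y) = pGerm F hsU₁ 0 := by
        rw [pGerm_smul, S.presheaf.germ_res_apply, hz]
        exact (map_zero _).symm
      obtain ⟨U', hle', -, hsU', he⟩ := exists_res_eq_of_pGerm_eq F hsU₁ _ _ h0
      have hx' : x ∈ f ⁻¹ᵁ U' := hxs.mem_open U'.2 hsU'
      have := congrArg (F.presheaf.germ _ x hx') he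
      rw [F.presheaf.germ_res_apply, F.presheaf.germ_res_apply, QCoh.germ_smul', map_zero] at this
      rw [map_zero]
      have hreg := ((isWeaklyRegular_cons_iff _ _ _).1 (isWeaklyRegular_of_flat hflat hxs
        (rs := [S.presheaf.germ U s hsU a₀]) (IsWeaklyRegular.cons ha (IsWeaklyRegular.nil _ _)))).1
      refine hreg.right_eq_zero_of_smul ?_
      rw [show (S.presheaf.stalkSpecializes hxs ≫ f.stalkMap x).hom (S.presheaf.germ U s hsU a₀) =
        X.presheaf.germ (f ⁻¹ᵁ U₁) x hx (f.app U₁ (S.presheaf.map (homOfLE hle).op a₀)) from ?_]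
      · exact this
      · rw [← S.presheaf.germ_res_apply (homOfLE hle) s hsU₁ a₀]
        show f.stalkMap x (S.presheaf.stalkSpecializes hxs _) = _
        rw [← ConcreteCategory.comp_apply (S.presheaf.germ U₁ s hsU₁), TopCat.Presheaf.germ_stalkSpecializes,
          Scheme.Hom.germ_stalkMap_apply]
  rw [← pGerm_res F hle₂ hsU₂ y]
  have : F.presheaf.map (homOfLE (f.preimage_mono hle₂)).op y = 0 := by
    have h := congrArg (F.presheaf.map (homOfLE (le_inf (f.preimage_mono hle₂) le_rfl :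
      f ⁻¹ᵁ U₂ ≤ f ⁻¹ᵁ U₁ ⊓ f ⁻¹ᵁ U₂)).op) he
    rwa [map_map', map_map', map_zero] at h
  rw [this]
  exact map_zero _

theorem mem_smul_of_flat (hflat : FlatMod.IsFlatOver f F) {a b : S.presheaf.stalk s}
    (hab : IsWeaklyRegular (S.presheaf.stalk s) [a, b])
    (y w : ((Scheme.Modules.pushforward f).obj F).presheaf.stalk s) (hyw : a • w = b • y) :
    ∃ w', a • w' = y := by
  classical
  obtain ⟨Ua, hsUa, a₀, rfl⟩ := TopCat.Presheaf.exists_germ_eq S.presheaf a
  obtain ⟨Ub, hsUb, b₀, rfl⟩ := TopCat.Presheaf.exists_germ_eq S.presheaf b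
  obtain ⟨Uy, hUy, -, hsUy, y₀, rfl⟩ := exists_pGerm_eq (f := f) F y (O := Ua ⊓ Ub) ⟨hsUa, hsUb⟩
  obtain ⟨U₁, hU₁, hU₁a, hsU₁, w₀, rfl⟩ := exists_pGerm_eq (f := f) F w (O := Uy) hsUy
  have h1 : U₁ ≤ Ua := hU₁.trans (hUy.trans inf_le_left)
  have h2 : U₁ ≤ Ub := hU₁.trans (hUy.trans inf_le_right)
  obtain ⟨U₂, hU₂, hU₂a, hsU₂, he⟩ := exists_res_eq_of_pGerm_eq F hsU₁
    (f.app U₁ (S.presheaf.map (homOfLE h1).op a₀) • w₀)
    (f.app U₁ (S.presheaf.map (homOfLE h2).op b₀) • F.presheaf.map (homOfLE (f.preimage_mono hU₁)).op y₀)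
    (by rw [pGerm_smul, pGerm_smul, pGerm_res F hU₁, S.presheaf.germ_res_apply, S.presheaf.germ_res_apply, hyw])
  let a' := S.presheaf.map (homOfLE (hU₂.trans h1)).op a₀
  let b' := S.presheaf.map (homOfLE (hU₂.trans h2)).op b₀
  let Y : Γ(F, f ⁻¹ᵁ U₂) := F.presheaf.map (homOfLE (f.preimage_mono (hU₂.trans hU₁))).op y₀
  have hmap : ∀ {x : X} (hx : x ∈ f ⁻¹ᵁ U₂) (hxs : f x ⤳ s) (r : Γ(S, U₂)),
      (S.presheaf.stalkSpecializes hxs ≫ f.stalkMap x).hom (S.presheaf.germ U₂ s hsU₂ r) =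
        X.presheaf.germ (f ⁻¹ᵁ U₂) x hx (f.app U₂ r) := by
    intro x hx hxs r
    show f.stalkMap x (S.presheaf.stalkSpecializes hxs _) = _
    rw [← ConcreteCategory.comp_apply (S.presheaf.germ U₂ s hsU₂), TopCat.Presheaf.germ_stalkSpecializes,
      Scheme.Hom.germ_stalkMap_apply]
  have hreg : ∀ {x : X} (hx : x ∈ f ⁻¹ᵁ U₂) (hxs : f x ⤳ s), IsWeaklyRegular (F.presheaf.stalk x)
      [X.presheaf.germ (f ⁻¹ᵁ U₂) x hx (f.app U₂ a'), X.presheaf.germ (f ⁻¹ᵁ U₂) x hx (f.app U₂ b')] := by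
    intro x hx hxs
    have := isWeaklyRegular_of_flat hflat hxs hab
    simp only [List.map_cons, List.map_nil] at this
    rwa [← S.presheaf.germ_res_apply (homOfLE (hU₂.trans h1)) s hsU₂ a₀,
      ← S.presheaf.germ_res_apply (homOfLE (hU₂.trans h2)) s hsU₂ b₀, hmap hx hxs, hmap hx hxs] at this
  have hloc : ∀ (x : X), f x ⤳ s → ∃ (O : X.Opens) (hO : O ≤ f ⁻¹ᵁ U₂) (v : Γ(F, O)), x ∈ O ∧ IsAffineOpen O ∧
      X.presheaf.map (homOfLE hO).op (f.app U₂ a') • v = F.presheaf.map (homOfLE hO).op Y := by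
    intro x hxs
    have hx : x ∈ f ⁻¹ᵁ U₂ := hxs.mem_open U₂.2 hsU₂
    obtain ⟨hA, hB⟩ := (isWeaklyRegular_cons_iff _ _ _).1 (hreg hx hxs)
    have hB' := ((isWeaklyRegular_cons_iff _ _ _).1 hB).1
    have hbY : ∃ t, X.presheaf.germ _ x hx (f.app U₂ a') • t =
        X.presheaf.germ _ x hx (f.app U₂ b') • F.presheaf.germ _ x hx Y := by
      have h := congrArg (F.presheaf.germ _ x hx) he
      rw [F.presheaf.germ_res_apply, F.presheaf.germ_res_apply, QCoh.germ_smul', QCoh.germ_smul',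
        F.presheaf.germ_res_apply] at h
      refine ⟨F.presheaf.germ _ x (f.preimage_mono hU₂ hx) w₀, ?_⟩
      rw [F.presheaf.germ_res_apply]
      simp only [a', b', germ_app_res] at h ⊢
      exact h
    obtain ⟨t, ht⟩ := hbY
    have h0 : (Submodule.Quotient.mk (F.presheaf.germ _ x hx Y) :
        QuotSMulTop (X.presheaf.germ _ x hx (f.app U₂ a')) (F.presheaf.stalk x)) = 0 := by
      refine hB'.right_eq_zero_of_smul ?_
      rw [← Submodule.Quotient.mk_smul]
      exact Alg6.mem_pointwise_smul_top_iff.2 ⟨t, ht⟩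
    obtain ⟨v, hv⟩ := Alg6.mem_pointwise_smul_top_iff.1 h0
    obtain ⟨V, hxV, v₀, rfl⟩ := TopCat.Presheaf.exists_germ_eq F.presheaf v
    have hx' : x ∈ V ⊓ f ⁻¹ᵁ U₂ := ⟨hxV, hx⟩
    obtain ⟨O, hxO, i, j, hij⟩ := TopCat.Presheaf.germ_eq F.presheaf x hx' hx
      (X.presheaf.map (homOfLE (inf_le_right : V ⊓ f ⁻¹ᵁ U₂ ≤ _)).op (f.app U₂ a') •
        F.presheaf.map (homOfLE (inf_le_left : V ⊓ f ⁻¹ᵁ U₂ ≤ V)).op v₀) Y
      (by rw [QCoh.germ_smul', F.presheaf.germ_res_apply, X.presheaf.germ_res_apply, hv])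
    obtain ⟨O', hle', hO', hxO'⟩ := exists_affine_nhd (S := X) hxO
    refine ⟨O', hle'.trans j.le, F.presheaf.map (homOfLE ((hle'.trans i.le).trans inf_le_left)).op v₀, hxO', hO', ?_⟩
    have h := congrArg (F.presheaf.map (homOfLE hle').op) hij
    have ei : i = homOfLE i.le := Subsingleton.elim _ _
    have ej : j = homOfLE j.le := Subsingleton.elim _ _
    rw [ei, ej, map_map', map_map', map_smul', map_map', ringMap_map'] at h
    exact h
  choose O hO v hxO hOa hv using fun x : {x : X // f x ⤳ s} => hloc x.1 x.2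
  obtain ⟨U₃, hU₃, hU₃a, hsU₃, hcov⟩ := exists_nhd_preimage_le f hU₂a hsU₂ (f ⁻¹ᵁ U₂) (⨆ x, O x)
    (f.isCompact_preimage hU₂a.isCompact) le_rfl fun x _ hxs => Opens.mem_iSup.2 ⟨⟨x, hxs⟩, hxO ⟨x, hxs⟩⟩
  obtain ⟨t, ht⟩ := (f.isCompact_preimage hU₃a.isCompact).elim_finite_subcover (fun x => (O x : Set X))
    (fun x => (O x).2) (fun x hx => by
      obtain ⟨i, hi⟩ := Opens.mem_iSup.1 (hcov ⟨f.preimage_mono hU₃ hx, hx⟩)
      exact Set.mem_iUnion.2 ⟨i, hi⟩)
  obtain ⟨r, hr⟩ := mem_smul_of_cover (f := f) (F := F) hsU₂ a' Y (fun i : t => O i.1) (fun i => hO i.1)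
    (fun i => v i.1) (fun i => hv i.1) (fun x hxs => by
      obtain ⟨i, hi, hxi⟩ := Set.mem_iUnion₂.1 (ht (show x ∈ f ⁻¹ᵁ U₃ from hxs.mem_open U₃.2 hsU₃))
      exact ⟨⟨i, hi⟩, hxi⟩)
    (fun i j => by
      have hc : IsCompact ((O i.1 ⊓ O j.1 : X.Opens) : Set X) :=
        f.isQuasiSeparated_preimage hU₂a.isQuasiSeparated _ _ (hO i.1) (O i.1).2 (hOa i.1).isCompact (hO j.1)
          (O j.1).2 (hOa j.1).isCompact
      obtain ⟨U', hle, -, hsU', hU'⟩ := exists_eq_near (f := f) (F := F) hU₂a hsU₂ (O i.1 ⊓ O j.1) hc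
        (inf_le_left.trans (hO i.1)) (F.presheaf.map (homOfLE inf_le_left).op (v i.1))
        (F.presheaf.map (homOfLE inf_le_right).op (v j.1)) fun x hx hxs => by
          have hx2 : x ∈ f ⁻¹ᵁ U₂ := hO i.1 hx.1
          refine (((isWeaklyRegular_cons_iff _ _ _).1 (hreg hx2 hxs)).1) ?_
          show X.presheaf.germ _ x hx2 (f.app U₂ a') • _ = X.presheaf.germ _ x hx2 (f.app U₂ a') • _
          have hi := congrArg (F.presheaf.germ _ x hx.1) (hv i.1)
          have hj := congrArg (F.presheaf.germ _ x hx.2) (hv j.1)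
          rw [QCoh.germ_smul', X.presheaf.germ_res_apply, F.presheaf.germ_res_apply] at hi hj
          rw [F.presheaf.germ_res_apply, F.presheaf.germ_res_apply, hi, hj]
      refine ⟨U', hle, hsU', ?_⟩
      rwa [map_map', map_map'] at hU')
  refine ⟨r, ?_⟩
  rw [← S.presheaf.germ_res_apply (homOfLE (hU₂.trans h1)) s hsU₂ a₀, hr]
  exact pGerm_res F (hU₂.trans hU₁) hsU₂ y₀

/-- Depth of stalks of direct images of flat modules. -/
theorem min_two_depth_le (hflat : FlatMod.IsFlatOver f F) :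
    min (2 : ℕ∞) (LocCoh.depth (S.presheaf.stalk s) (S.presheaf.stalk s)) ≤
      LocCoh.depth (S.presheaf.stalk s) (((Scheme.Modules.pushforward f).obj F).presheaf.stalk s) := by
  have hne : maximalIdeal (S.presheaf.stalk s) • (⊤ : Submodule (S.presheaf.stalk s) (S.presheaf.stalk s)) ≠ ⊤ := by
    rw [smul_eq_mul, Ideal.mul_top]
    exact (maximalIdeal.isMaximal _).ne_top
  have key : ∀ k : ℕ, k ≤ 2 → (k : ℕ∞) ≤ LocCoh.depth (S.presheaf.stalk s) (S.presheaf.stalk s) →
      (k : ℕ∞) ≤ LocCoh.depth (S.presheaf.stalk s) (((Scheme.Modules.pushforward f).obj F).presheaf.stalk s) := by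
    intro k hk h
    obtain ⟨rs, hrs, hmem, hlen⟩ := Alg6.exists_length_ge_of_le_idealDepth hne h
    match k, hk, rs, hlen with
    | 0, _, _, _ => simp
    | 1, _, a :: _, _ =>
      exact Alg6.length_le_idealDepth (rs := [a]) (IsWeaklyRegular.cons
        (isSMulRegular_pushforward hflat ((isWeaklyRegular_cons_iff _ _ _).1 hrs).1) (IsWeaklyRegular.nil _ _))
        (fun r hr => hmem r (by simp_all))
    | 2, _, a :: b :: _, _ =>
      obtain ⟨ha, hb⟩ := (isWeaklyRegular_cons_iff _ _ _).1 hrs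
      have hb' := ((isWeaklyRegular_cons_iff _ _ _).1 hb).1
      have hab : IsWeaklyRegular (S.presheaf.stalk s) [a, b] :=
        IsWeaklyRegular.cons ha (IsWeaklyRegular.cons hb' (IsWeaklyRegular.nil _ _))
      refine Alg6.length_le_idealDepth (rs := [a, b]) (IsWeaklyRegular.cons (isSMulRegular_pushforward hflat ha)
        (IsWeaklyRegular.cons ?_ (IsWeaklyRegular.nil _ _))) (fun r hr => hmem r (by
          simp only [List.mem_cons, List.not_mem_nil, or_false] at hr ⊢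
          tauto))
      rw [isSMulRegular_iff_right_eq_zero_of_smul]
      intro q hq
      obtain ⟨y, rfl⟩ := Submodule.Quotient.mk_surjective _ q
      rw [← Submodule.Quotient.mk_smul, Alg6.mem_pointwise_smul_top_iff] at hq
      obtain ⟨w, hw⟩ := hq
      exact Alg6.mem_pointwise_smul_top_iff.2 (mem_smul_of_flat hflat hab y w hw)
  rcases le_total (2 : ℕ∞) (LocCoh.depth (S.presheaf.stalk s) (S.presheaf.stalk s)) with h | h
  · rw [min_eq_left h]
    exact key 2 le_rfl h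
  · rw [min_eq_right h]
    obtain ⟨k, hk, hk2⟩ := ENat.le_natCast_iff.1 h
    rw [hk]
    exact key k hk2 hk.ge

end Groth.Agent.PushDepth
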