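import Groth.Agent.QCoh.Stalk
import Groth.Agent.QCoh.DevissageP
import Mathlib.RingTheory.Ideal.Maximal

/-!
# Sections near the preimage of the generalizations of a point
-/

set_option autoImplicit false
set_option backward.isDefEq.respectTransparency false
set_option backward.isDefEq.respectTransparency.types false
set_option linter.style.haveILetI false

universe u

open CategoryTheory AlgebraicGeometry TopologicalSpace Opposite

noncomputable section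

namespace Groth.Agent.PushDepth

variable {X S : Scheme.{u}} (f : X ⟶ S)

/-- An open containing the points over generalizations of `s` contains a qc open near the fibre-germ of `s`. -/
theorem exists_nhd_preimage_le {U₀ : S.Opens} (hU₀ : IsAffineOpen U₀) {s : S} (hs : s ∈ U₀) (V W : X.Opens)
    (hV : IsCompact (V : Set X)) (hVU : V ≤ f ⁻¹ᵁ U₀) (hW : ∀ x ∈ V, f x ⤳ s → x ∈ W) :
    ∃ U : S.Opens, U ≤ U₀ ∧ IsAffineOpen U ∧ s ∈ U ∧ V ⊓ f ⁻¹ᵁ U ≤ W := by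
  classical
  have haff : ∀ V₁ : X.Opens, IsAffineOpen V₁ → V₁ ≤ V →
      ∃ g : Γ(S, U₀), s ∈ S.basicOpen g ∧ V₁ ⊓ f ⁻¹ᵁ S.basicOpen g ≤ W := by
    intro V₁ hV₁ hle
    let φ := (f.appLE U₀ V₁ (hle.trans hVU)).hom
    let I : Ideal Γ(X, V₁) :=
      { carrier := {r | X.basicOpen r ≤ W}
        zero_mem' := by simp [Scheme.basicOpen_zero]
        add_mem' := fun {a b} ha hb => (X.basicOpen_add_le a b).trans (sup_le ha hb)
        smul_mem' := fun c a ha => by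
          show X.basicOpen (c * a) ≤ W
          rw [X.basicOpen_mul]
          exact inf_le_right.trans ha }
    have hI : ¬ Disjoint (I : Set Γ(X, V₁))
        (((hU₀.primeIdealOf ⟨s, hs⟩).asIdeal.primeCompl.map φ.toMonoidHom : Submonoid _) : Set Γ(X, V₁)) := by
      intro hd
      obtain ⟨q, hq, hIq, hqd⟩ := Ideal.exists_le_prime_disjoint I _ hd
      let x : X := hV₁.fromSpec ⟨q, hq⟩
      have hxV₁ : x ∈ V₁ := hV₁.opensRange_fromSpec.le ⟨_, rfl⟩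
      have hxq : hV₁.primeIdealOf ⟨x, hxV₁⟩ = ⟨q, hq⟩ :=
        hV₁.fromSpec.isOpenEmbedding.injective (hV₁.fromSpec_primeIdealOf _)
      have hfx : f x ⤳ s := by
        refine specializes_iff_forall_open.2 fun O hO hsO => ?_
        obtain ⟨g, hg, hsg⟩ := hU₀.exists_basicOpen_le (V := ⟨O, hO⟩) ⟨s, hsO⟩ hs
        have hgS : g ∈ (hU₀.primeIdealOf ⟨s, hs⟩).asIdeal.primeCompl :=
          (QCoh.mem_basicOpen_iff_notMem hU₀ hs g).1 hsg
        have hgq : φ g ∉ (hV₁.primeIdealOf ⟨x, hxV₁⟩).asIdeal := by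
          rw [hxq]
          exact fun h => Set.disjoint_left.1 hqd h ⟨g, hgS, rfl⟩
        have hx := (QCoh.mem_basicOpen_iff_notMem hV₁ hxV₁ (φ g)).2 hgq
        rw [show φ g = (f.appLE U₀ V₁ (hle.trans hVU)).hom g from rfl, Scheme.basicOpen_appLE] at hx
        exact hg hx.2
      obtain ⟨r, hr, hxr⟩ := hV₁.exists_basicOpen_le (V := W) ⟨x, hW x (hle hxV₁) hfx⟩ hxV₁
      exact (QCoh.mem_basicOpen_iff_notMem hV₁ hxV₁ r).1 hxr (hxq.symm ▸ hIq hr)
    obtain ⟨r, hrI, g, hgS, rfl⟩ := Set.not_disjoint_iff.1 hI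
    refine ⟨g, (QCoh.mem_basicOpen_iff_notMem hU₀ hs g).2 hgS, le_trans ?_ hrI⟩
    show V₁ ⊓ f ⁻¹ᵁ S.basicOpen g ≤ X.basicOpen (f.appLE U₀ V₁ (hle.trans hVU) g)
    rw [Scheme.basicOpen_appLE]
  choose g hg hgW using fun V₁ : {V₁ : X.Opens // IsAffineOpen V₁ ∧ V₁ ≤ V} => haff V₁.1 V₁.2.1 V₁.2.2
  obtain ⟨t, ht⟩ := hV.elim_finite_subcover (fun V₁ : {V₁ : X.Opens // IsAffineOpen V₁ ∧ V₁ ≤ V} => (V₁.1 : Set X))
    (fun V₁ => V₁.1.2) (fun x hx => by
      obtain ⟨_, ⟨V₁, hV₁, rfl⟩, hx₁, hle⟩ := X.isBasis_affineOpens.exists_subset_of_mem_open hx V.2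
      exact Set.mem_iUnion.2 ⟨⟨V₁, hV₁, hle⟩, hx₁⟩)
  let O : S.Opens := U₀ ⊓ t.inf fun V₁ => S.basicOpen (g V₁)
  have hsO : s ∈ O := by
    refine ⟨hs, ?_⟩
    clear ht
    induction t using Finset.induction_on with
    | empty => exact trivial
    | insert a t _ ih =>
      rw [Finset.inf_insert]
      exact ⟨hg a, ih⟩
  obtain ⟨_, ⟨U, hU, rfl⟩, hsU, hUO⟩ := S.isBasis_affineOpens.exists_subset_of_mem_open hsO O.2
  refine ⟨U, fun z hz => (hUO hz).1, hU, hsU, fun x hx => ?_⟩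
  obtain ⟨V₁, hV₁, hxV₁⟩ := Set.mem_iUnion₂.1 (ht hx.1)
  exact hgW V₁ ⟨hxV₁, Finset.inf_le (f := fun V₁ => S.basicOpen (g V₁)) hV₁ (hUO hx.2).2⟩

variable {f} (F : X.Modules)

/-- The germ of a section of the direct image. -/
abbrev pGerm {s : S} {U : S.Opens} (hs : s ∈ U) (y : Γ(F, f ⁻¹ᵁ U)) :
    ((Scheme.Modules.pushforward f).obj F).presheaf.stalk s :=
  ((Scheme.Modules.pushforward f).obj F).presheaf.germ U s hs y

theorem pGerm_res {s : S} {U U' : S.Opens} (h : U' ≤ U) (hs : s ∈ U') (y : Γ(F, f ⁻¹ᵁ U)) :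
    pGerm F hs (F.presheaf.map (homOfLE (f.preimage_mono h)).op y) = pGerm F (h hs) y :=
  ((Scheme.Modules.pushforward f).obj F).presheaf.germ_res_apply (homOfLE h) s hs y

theorem pGerm_smul {s : S} {U : S.Opens} (hs : s ∈ U) (a : Γ(S, U)) (y : Γ(F, f ⁻¹ᵁ U)) :
    pGerm F hs (f.app U a • y) = S.presheaf.germ U s hs a • pGerm F hs y :=
  (congrArg _ (QCoh.pushforward_smul f U a y).symm).trans
    (QCoh.germ_smul' ((Scheme.Modules.pushforward f).obj F) hs a y)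

theorem exists_affine_nhd {s : S} {O : S.Opens} (hs : s ∈ O) : ∃ U ≤ O, IsAffineOpen U ∧ s ∈ U := by
  obtain ⟨_, ⟨U, hU, rfl⟩, hsU, hle⟩ := S.isBasis_affineOpens.exists_subset_of_mem_open hs O.2
  exact ⟨U, hle, hU, hsU⟩

theorem exists_pGerm_eq {s : S} (z : ((Scheme.Modules.pushforward f).obj F).presheaf.stalk s) {O : S.Opens}
    (hs : s ∈ O) :
    ∃ (U : S.Opens) (_ : U ≤ O) (_ : IsAffineOpen U) (hsU : s ∈ U) (y : Γ(F, f ⁻¹ᵁ U)), pGerm F hsU y = z := by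
  obtain ⟨W, hsW, y, rfl⟩ := TopCat.Presheaf.exists_germ_eq ((Scheme.Modules.pushforward f).obj F).presheaf z
  obtain ⟨U, hle, hU, hsU⟩ := exists_affine_nhd (O := W ⊓ O) ⟨hsW, hs⟩
  exact ⟨U, hle.trans inf_le_right, hU, hsU, F.presheaf.map (homOfLE (f.preimage_mono (hle.trans inf_le_left))).op y,
    pGerm_res F (hle.trans inf_le_left) hsU y⟩

theorem exists_res_eq_of_pGerm_eq {s : S} {U : S.Opens} (hs : s ∈ U) (y y' : Γ(F, f ⁻¹ᵁ U))
    (h : pGerm F hs y = pGerm F hs y') :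
    ∃ (U' : S.Opens) (hle : U' ≤ U), IsAffineOpen U' ∧ s ∈ U' ∧
      F.presheaf.map (homOfLE (f.preimage_mono hle)).op y = F.presheaf.map (homOfLE (f.preimage_mono hle)).op y' := by
  obtain ⟨W, hsW, i, j, hij⟩ := TopCat.Presheaf.germ_eq ((Scheme.Modules.pushforward f).obj F).presheaf s hs hs y y' h
  obtain ⟨U', hle, hU', hsU'⟩ := exists_affine_nhd hsW
  refine ⟨U', hle.trans i.le, hU', hsU', ?_⟩
  have := congrArg (((Scheme.Modules.pushforward f).obj F).presheaf.map (homOfLE hle).op) hij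
  rw [← ConcreteCategory.comp_apply, ← ConcreteCategory.comp_apply, ← Functor.map_comp, ← Functor.map_comp] at this
  exact this

variable {F}

theorem map_map' {A B C : X.Opens} (h₁ : C ≤ B) (h₂ : B ≤ A) (y : Γ(F, A)) :
    F.presheaf.map (homOfLE h₁).op (F.presheaf.map (homOfLE h₂).op y) =
      F.presheaf.map (homOfLE (h₁.trans h₂)).op y := by
  rw [← ConcreteCategory.comp_apply, ← Functor.map_comp]
  rfl

theorem ringMap_map' {A B C : X.Opens} (h₁ : C ≤ B) (h₂ : B ≤ A) (r : Γ(X, A)) :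
    X.presheaf.map (homOfLE h₁).op (X.presheaf.map (homOfLE h₂).op r) =
      X.presheaf.map (homOfLE (h₁.trans h₂)).op r := by
  rw [← ConcreteCategory.comp_apply, ← Functor.map_comp]
  rfl

theorem isUnit_ringMap {A B : X.Opens} (h : B ≤ A) {r : Γ(X, A)} (hr : IsUnit r) :
    IsUnit (X.presheaf.map (homOfLE h).op r) :=
  hr.map (X.presheaf.map (homOfLE h).op).hom

theorem map_smul' {A B : X.Opens} (h : B ≤ A) (a : Γ(X, A)) (y : Γ(F, A)) :
    F.presheaf.map (homOfLE h).op (a • y) =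
      X.presheaf.map (homOfLE h).op a • F.presheaf.map (homOfLE h).op y :=
  Scheme.Modules.map_smul F (homOfLE h) a y

/-- Two sections with equal germs at the points of a qc open over generalizations of `s` agree near `s`. -/
theorem exists_eq_near {U₀ : S.Opens} (hU₀ : IsAffineOpen U₀) {s : S} (hs : s ∈ U₀) (V : X.Opens)
    (hV : IsCompact (V : Set X)) (hVU : V ≤ f ⁻¹ᵁ U₀) (y y' : Γ(F, V))
    (h : ∀ (x : X) (hx : x ∈ V), f x ⤳ s → F.presheaf.germ V x hx y = F.presheaf.germ V x hx y') :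
    ∃ U : S.Opens, U ≤ U₀ ∧ IsAffineOpen U ∧ s ∈ U ∧
      F.presheaf.map (homOfLE (inf_le_left : V ⊓ f ⁻¹ᵁ U ≤ V)).op y =
        F.presheaf.map (homOfLE (inf_le_left : V ⊓ f ⁻¹ᵁ U ≤ V)).op y' := by
  let W : X.Opens :=
    ⟨{x | ∃ (O : X.Opens) (_ : x ∈ O) (hO : O ≤ V),
        F.presheaf.map (homOfLE hO).op y = F.presheaf.map (homOfLE hO).op y'},
      isOpen_iff_forall_mem_open.2 fun x ⟨O, hx, hO, e⟩ => ⟨O, fun z hz => ⟨O, hz, hO, e⟩, O.2, hx⟩⟩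
  obtain ⟨U, hle, hU, hsU, hUW⟩ := exists_nhd_preimage_le f hU₀ hs V W hV hVU fun x hx hxs => by
    obtain ⟨O, hxO, i, j, e⟩ := TopCat.Presheaf.germ_eq F.presheaf x hx hx y y' (h x hx hxs)
    exact ⟨O, hxO, i.le, e⟩
  refine ⟨U, hle, hU, hsU, TopCat.Presheaf.section_ext ⟨F.presheaf, F.isSheaf⟩ _ _ _ fun x hx => ?_⟩
  obtain ⟨O, hxO, hO, e⟩ := hUW hx
  show F.presheaf.germ _ x hx _ = F.presheaf.germ _ x hx _
  rw [F.presheaf.germ_res_apply, F.presheaf.germ_res_apply, ← F.presheaf.germ_res_apply (homOfLE hO) x hxO y,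
    ← F.presheaf.germ_res_apply (homOfLE hO) x hxO y', e]

/-- Glue finitely many local solutions of `a • w = y`. -/
theorem mem_smul_of_cover {U₀ : S.Opens} {s : S} (hs : s ∈ U₀)
    [QuasiCompact f] (a : Γ(S, U₀)) (y : Γ(F, f ⁻¹ᵁ U₀)) {ι : Type u} [Finite ι] (O : ι → X.Opens)
    (hO : ∀ i, O i ≤ f ⁻¹ᵁ U₀) (w : ∀ i, Γ(F, O i))
    (hw : ∀ i, X.presheaf.map (homOfLE (hO i)).op (f.app U₀ a) • w i = F.presheaf.map (homOfLE (hO i)).op y)
    (hcov : ∀ x : X, f x ⤳ s → ∃ i, x ∈ O i)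
    (hagree : ∀ i j, ∃ U : S.Opens, U ≤ U₀ ∧ s ∈ U ∧
      F.presheaf.map (homOfLE (inf_le_left.trans inf_le_left : O i ⊓ O j ⊓ f ⁻¹ᵁ U ≤ O i)).op (w i) =
        F.presheaf.map (homOfLE (inf_le_left.trans inf_le_right : O i ⊓ O j ⊓ f ⁻¹ᵁ U ≤ O j)).op (w j)) :
    ∃ z, S.presheaf.germ U₀ s hs a • z = pGerm F hs y := by
  classical
  choose V hV hsV hVe using hagree
  haveI := Fintype.ofFinite ι
  have hsI : s ∈ U₀ ⊓ (Finset.univ : Finset (ι × ι)).inf fun p => V p.1 p.2 := by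
    refine ⟨hs, ?_⟩
    suffices ∀ t : Finset (ι × ι), s ∈ t.inf fun p => V p.1 p.2 from this _
    intro t
    induction t using Finset.induction_on with
    | empty => exact trivial
    | insert p t _ ih =>
      rw [Finset.inf_insert]
      exact ⟨hsV p.1 p.2, ih⟩
  obtain ⟨U₁, hU₁, hU₁a, hsU₁⟩ := exists_affine_nhd hsI
  obtain ⟨U₂, hU₂, hU₂a, hsU₂, hU₂W⟩ := exists_nhd_preimage_le f hU₁a hsU₁ (f ⁻¹ᵁ U₁) (⨆ i, O i)
    (f.isCompact_preimage hU₁a.isCompact) le_rfl fun x _ hxs => by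
      obtain ⟨i, hi⟩ := hcov x hxs
      exact Opens.mem_iSup.2 ⟨i, hi⟩
  have hU₂₀ : U₂ ≤ U₀ := hU₂.trans (hU₁.trans inf_le_left)
  have hle : f ⁻¹ᵁ U₂ ≤ ⨆ i, O i ⊓ f ⁻¹ᵁ U₂ := fun x hx => by
    obtain ⟨i, hi⟩ := Opens.mem_iSup.1 (hU₂W ⟨f.preimage_mono hU₂ hx, hx⟩)
    exact Opens.mem_iSup.2 ⟨i, hi, hx⟩
  obtain ⟨z, hz, -⟩ := TopCat.Sheaf.existsUnique_gluing' ⟨F.presheaf, F.isSheaf⟩ (fun i => O i ⊓ f ⁻¹ᵁ U₂)
    (f ⁻¹ᵁ U₂) (fun i => homOfLE inf_le_right) hle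
    (fun i => F.presheaf.map (homOfLE inf_le_left).op (w i)) (fun i j => by
      have h2 : U₂ ≤ V i j := hU₂.trans (hU₁.trans (inf_le_right.trans
        (Finset.inf_le (f := fun p : ι × ι => V p.1 p.2) (Finset.mem_univ (i, j)))))
      have hh : (O i ⊓ f ⁻¹ᵁ U₂) ⊓ (O j ⊓ f ⁻¹ᵁ U₂) ≤ O i ⊓ O j ⊓ f ⁻¹ᵁ V i j := fun x hx =>
        ⟨⟨hx.1.1, hx.2.1⟩, f.preimage_mono h2 hx.1.2⟩
      have := congrArg (F.presheaf.map (homOfLE hh).op) (hVe i j)
      rw [map_map', map_map'] at this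
      show F.presheaf.map (Opens.infLELeft _ _).op (F.presheaf.map _ (w i)) =
        F.presheaf.map (Opens.infLERight _ _).op (F.presheaf.map _ (w j))
      rw [← ConcreteCategory.comp_apply, ← ConcreteCategory.comp_apply, ← Functor.map_comp, ← Functor.map_comp]
      exact this)
  refine ⟨pGerm F hsU₂ z, ?_⟩
  rw [← pGerm_res F hU₂₀ hsU₂ y, ← S.presheaf.germ_res_apply (homOfLE hU₂₀) s hsU₂ a, ← pGerm_smul]
  refine congrArg (pGerm F hsU₂) (TopCat.Presheaf.section_ext ⟨F.presheaf, F.isSheaf⟩ _ _ _ fun x hx => ?_)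
  obtain ⟨i, hi⟩ := Opens.mem_iSup.1 (hle hx)
  show F.presheaf.germ _ x hx _ = F.presheaf.germ _ x hx _
  rw [QCoh.germ_smul', F.presheaf.germ_res_apply, ← F.presheaf.germ_res_apply (homOfLE (hO i)) x hi.1 y, ← hw i,
    QCoh.germ_smul', X.presheaf.germ_res_apply]
  have hzi : F.presheaf.germ _ x hx z = F.presheaf.germ _ x hi.1 (w i) := by
    rw [← F.presheaf.germ_res_apply (homOfLE (inf_le_right : O i ⊓ f ⁻¹ᵁ U₂ ≤ f ⁻¹ᵁ U₂)) x hi z]
    exact (congrArg (F.presheaf.germ _ x hi) (hz i)).trans (F.presheaf.germ_res_apply _ _ _ _)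
  rw [hzi]
  congr 1
  have := congr(($(f.naturality (homOfLE hU₂₀).op)) a)
  refine (congrArg (X.presheaf.germ _ x hx) this).trans ?_
  exact X.presheaf.germ_res_apply _ _ _ _

end Groth.Agent.PushDepth
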